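import Cfsg.Agent.H35.TI.McLCent
import Cfsg.Agent.H921.TI.McLThree

/-!
# S4819/S4820, `3.McL` [3MCL-E]: `|C(x)| = 29160` (helper35)
-/

set_option autoImplicit false

namespace Cfsg.Agent.H35.TI

open Subgroup Cfsg.Agent.McLType.X275 Cfsg.Agent.McLType.Gens Cfsg.Agent.McLType.Model Cfsg.Agent.H686.Odd.McL

/-- **`|C(x)| = 29160`** -/
theorem card_x : Nat.card (centralizer ({s ^ 4} : Set G1)) = 29160 := by
  obtain ⟨S, h1, h2, -⟩ := Cfsg.Agent.H921.TI.exists_S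
  exact card_x_of ⟨S, h1, h2⟩

end Cfsg.Agent.H35.TI
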